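import Groth.Agent.Lib.GRing.EssFinite
import Groth.Agent.Lib.NormalTensor.BaseChange
import Groth.Agent.Lib.Excellent.FormalFibre
import Groth.Agent.Lib.Excellent.NormalRing
import Groth.Agent.Lib.Henselian.GRingHens
import Groth.Agent.Lib.Cohen.DedekindGRing
import Groth.Agent.Lib.ModelFibre.SmoothGeneric
import Groth.Agent.S0598
import Groth.Agent.S1597
import Groth.Prelude.Def_Curv2

/-!
# Analytic normality

* `isNormal_cpl_of_isGRing`: a normal local G-ring is analytically normal
* `isNormal_cpl_localization`: analytic normality of normal finite type algebras over a discrete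
  valuation ring whose completed base change has normal generic fibre
-/

set_option autoImplicit false
set_option linter.style.haveILetI false

universe u

open IsLocalRing
open scoped TensorProduct

namespace Groth.Agent.Lib.AnalyticNormal74.Basic

open Groth.Agent.Lib

/-- A normal local G-ring is analytically normal. -/
theorem isNormal_cpl_of_isGRing (L : Type u) [CommRing L] [IsLocalRing L] (h : CAlg.IsGRing L)
    [IsDomain L] [IsIntegrallyClosed L] :
    IsDomain (AdicCompletion (maximalIdeal L) L) ∧ IsIntegrallyClosed (AdicCompletion (maximalIdeal L) L) := by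
  haveI := h.1
  haveI := Excellent.CompletionNoetherian.isNoetherianRing_adicCompletion (A := L) (maximalIdeal L)
  let C := AdicCompletion (maximalIdeal L) L
  haveI : IsLocalRing C := Groth.Agent.Lib.Regular.Completion.isLocalRing (maximalIdeal L) (maximalIdeal.isMaximal L).ne_top
  have hL : EGA4.IsNormalRing L := fun P _ =>
    ⟨IsLocalization.isDomain_localization P.primeCompl_le_nonZeroDivisors,
      isIntegrallyClosed_of_isLocalization _ P.primeCompl P.primeCompl_le_nonZeroDivisors⟩
  have hC : EGA4.IsNormalRing C := NormalTensor.Basic.isNormalRing_congr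
    (Algebra.TensorProduct.rid L C C).toRingEquiv
    (NormalTensor.BaseChange.isNormalRing_tensor
      (GRing.EssFinite.isNormalHom_of_isRegularHom L C (Henselian.GRingHens.isRegularHom_cpl_of_isGRing L h)) hL)
  exact Excellent.NormalRing.isoInvariant_domainIntClosed _ _
    (IsLocalization.atUnits C (maximalIdeal C).primeCompl (S := Localization.AtPrime (maximalIdeal C))
      (fun x hx => not_not.mp hx)).symm.toRingEquiv (hC (maximalIdeal C))

/-- A field is a G-ring. -/
theorem isGRing_field (K : Type u) [Field K] : CAlg.IsGRing K := by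
  haveI : IsAdicComplete (maximalIdeal K) K := by
    rw [maximalIdeal_eq_bot]; infer_instance
  exact Groth.Agent.S0598.result K

variable {R : Type u} [CommRing R] [IsDomain R] [IsDiscreteValuationRing R]
variable {B : Type u} [CommRing B] [Algebra R B]

theorem sub_eq {M : Type u} [CommRing M] {S Y A p T T' z bb cc : M} (hy : Y * S = z) (h1 : z = bb + p * T)
    (h2 : S = cc + p * T') (ha : A * cc = bb) : S * (Y - A) = p * (T - T' * A) := by
  linear_combination hy + h1 - ha - A * h2

/-- Congruence modulo powers of the uniformizer. -/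
theorem exists_decomp {π : R} (hπ : Irreducible π) (m : ℕ) :
    ∀ r : Curv2.cpl R, ∃ (a : R) (s : Curv2.cpl R), r = algebraMap R _ a + algebraMap R _ (π ^ m) * s := by
  induction m with
  | zero => exact fun r => ⟨0, r, by simp⟩
  | succ m ih =>
    intro r
    obtain ⟨a, s, hs⟩ := ih r
    obtain ⟨b, hb⟩ := Groth.Agent.S1597.cpl_decomp s
    have hm : maximalIdeal (Curv2.cpl R) = Ideal.span {algebraMap R _ π} := by
      have h := congrArg (Ideal.map (algebraMap R (Curv2.cpl R))) hπ.maximalIdeal_eq
      rw [Ideal.map_span, Set.image_singleton] at h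
      exact AdicCompletion.maximalIdeal_eq_map.trans h
    rw [hm, Ideal.mem_span_singleton'] at hb
    obtain ⟨t, ht⟩ := hb
    refine ⟨a + π ^ m * b, t, ?_⟩
    rw [eq_add_of_sub_eq ht.symm] at hs
    rw [hs, map_add, map_mul, pow_succ, map_mul]
    ring

/-- Elements of the completed base change are congruent to elements of the algebra. -/
theorem exists_sub_mem {π : R} (hπ : Irreducible π) (m : ℕ) (z : B ⊗[R] Curv2.cpl R) :
    ∃ (b : B) (t : B ⊗[R] Curv2.cpl R), z = algebraMap B _ b + algebraMap R _ (π ^ m) * t := by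
  induction z using TensorProduct.induction_on with
  | zero => exact ⟨0, 0, by simp⟩
  | add x y hx hy =>
    obtain ⟨b, t, rfl⟩ := hx
    obtain ⟨b', t', rfl⟩ := hy
    exact ⟨b + b', t + t', by rw [map_add]; ring⟩
  | tmul b r =>
    obtain ⟨a, s, rfl⟩ := exists_decomp hπ m r
    refine ⟨a • b, b ⊗ₜ s, ?_⟩
    rw [TensorProduct.tmul_add, ← Algebra.smul_def (π ^ m) s, TensorProduct.tmul_smul,
      Algebra.TensorProduct.algebraMap_apply, Algebra.algebraMap_self, RingHom.id_apply,
      Algebra.algebraMap_eq_smul_one (R := R) (A := Curv2.cpl R) a, TensorProduct.tmul_smul,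
      TensorProduct.smul_tmul',
      Algebra.smul_def]
    congr 1
    exact Algebra.smul_def (π ^ m) (b ⊗ₜ[R] s)

theorem isNormalRing_tensor_cpl [IsDomain B] [IsIntegrallyClosed B] [Algebra.FiniteType R B] {π : R}
    (hπ : Irreducible π) (hπB : algebraMap R B π ≠ 0)
    (hgen : ∀ (Q : Ideal (B ⊗[R] Curv2.cpl R)) [Q.IsPrime], algebraMap R _ π ∉ Q →
      IsDomain (Localization.AtPrime Q) ∧ IsIntegrallyClosed (Localization.AtPrime Q)) :
    EGA4.IsNormalRing (B ⊗[R] Curv2.cpl R) := by
  classical
  let Z := B ⊗[R] Curv2.cpl R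
  haveI := Excellent.CompletionNoetherian.isNoetherianRing_adicCompletion (A := R) (maximalIdeal R)
  haveI : Module.FaithfullyFlat R (Curv2.cpl R) := Module.FaithfullyFlat.of_flat_of_isLocalHom
  haveI : IsNoetherianRing B := Algebra.FiniteType.isNoetherianRing R B
  haveI : IsNoetherianRing (Curv2.cpl R ⊗[R] B) := Algebra.FiniteType.isNoetherianRing (Curv2.cpl R) _
  haveI : IsNoetherianRing Z :=
    isNoetherianRing_of_ringEquiv _ (Algebra.TensorProduct.comm R (Curv2.cpl R) B).toRingEquiv
  haveI : Module.FaithfullyFlat B Z := inferInstance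
  let ϖ : Z := algebraMap R Z π
  have hϖ : ∀ m : ℕ, algebraMap R Z (π ^ m) ∈ nonZeroDivisors Z := fun m => by
    have : IsSMulRegular Z (algebraMap B Z ((algebraMap R B π) ^ m)) :=
      (IsSMulRegular.of_ne_zero (pow_ne_zero m hπB)).of_flat
    refine mem_nonZeroDivisors_iff_right.mpr fun z hz => this (show _ • z = _ • (0 : Z) from ?_)
    rw [smul_zero, smul_eq_mul, ← map_pow, ← IsScalarTower.algebraMap_apply, mul_comm, hz]
  let T := Localization.Away ϖ
  have hi : Function.Injective (algebraMap Z T) := IsLocalization.injective T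
    (Submonoid.powers_le.mpr (by simpa using hϖ 1))
  haveI : IsNoetherianRing T := IsLocalization.isNoetherianRing (Submonoid.powers ϖ) T inferInstance
  have hT : EGA4.IsNormalRing T :=
    (Excellent.FormalFibre.forall_localization_iff (Submonoid.powers ϖ)
      Excellent.NormalRing.isoInvariant_domainIntClosed).2 fun q _ hdisj =>
        hgen q fun hq => Set.disjoint_left.mp hdisj (Submonoid.mem_powers ϖ) hq
  refine NormalTensor.Basic.isNormalRing_of_isIntegrallyClosedIn (algebraMap Z T) hi (fun w hw => ?_)
    fun s => ⟨T, inferInstance, RingHom.id T, inferInstance, hT, fun _ _ h => h, fun r _ => ⟨_, rfl⟩⟩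
  obtain ⟨n, z, hz⟩ := IsLocalization.Away.surj ϖ w
  obtain ⟨b, t, hbt⟩ := exists_sub_mem hπ n z
  let u : T := w - algebraMap Z T t
  have hu : u * algebraMap Z T (ϖ ^ n) = algebraMap Z T (algebraMap B Z b) := by
    rw [map_pow, sub_mul, hz, hbt, map_add, map_mul, map_pow, map_pow]
    ring
  have hui : IsIntegral Z u := IsIntegral.sub (by exact hw) isIntegral_algebraMap
  obtain ⟨d, hd, hd'⟩ : ∃ d : Z, (∃ N : ℕ, d = ϖ ^ N) ∧ ∀ k : ℕ, ∃ c : Z, algebraMap Z T d * u ^ k = algebraMap Z T c := by
    obtain ⟨G, hG⟩ := hui.fg_adjoin_singleton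
    obtain ⟨⟨d, N, rfl⟩, hd⟩ := IsLocalization.exist_integer_multiples_of_finset (Submonoid.powers ϖ) G
    refine ⟨ϖ ^ N, ⟨N, rfl⟩, fun k => ?_⟩
    have hle : (Algebra.adjoin Z {u}).toSubmodule ≤
        (LinearMap.range (Algebra.linearMap Z T)).comap (LinearMap.mulLeft Z (algebraMap Z T (ϖ ^ N))) := by
      rw [← hG, Submodule.span_le]
      intro g hg
      obtain ⟨c, hc⟩ := hd g hg
      exact ⟨c, hc.trans (Algebra.smul_def _ _)⟩
    obtain ⟨c, hc⟩ := hle (show u ^ k ∈ (Algebra.adjoin Z {u}).toSubmodule from
      pow_mem (Algebra.self_mem_adjoin_singleton Z u) k)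
    exact ⟨c, hc.symm⟩
  obtain ⟨N, rfl⟩ := hd
  -- pull back to `B`
  have halm : ∀ k : ℕ, (algebraMap R B π) ^ (n * k) ∣ (algebraMap R B π) ^ N * b ^ k := fun k => by
    obtain ⟨c, hc⟩ := hd' k
    rw [← Ideal.mem_span_singleton, ← Ideal.comap_map_eq_self_of_faithfullyFlat (B := Z)
      (Ideal.span {(algebraMap R B π) ^ (n * k)}), Ideal.mem_comap, Ideal.map_span, Set.image_singleton,
      Ideal.mem_span_singleton']
    refine ⟨c, hi ?_⟩
    simp only [map_mul, map_pow, ← IsScalarTower.algebraMap_apply R B Z]
    rw [show (algebraMap Z T) (algebraMap B Z b) = u * algebraMap Z T ϖ ^ n by rw [← hu, map_pow], mul_pow,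
      ← pow_mul, ← hc, map_pow]
    ring
  let K := FractionRing B
  let β : K := algebraMap B K (algebraMap R B π)
  have hβ : β ≠ 0 := (map_ne_zero_iff _ (IsFractionRing.injective B K)).mpr hπB
  have hint : IsIntegral B (algebraMap B K b / β ^ n) := by
    refine isAlmostIntegral_iff_isIntegral.mp ⟨(algebraMap R B π) ^ N, mem_nonZeroDivisors_of_ne_zero
      (pow_ne_zero _ hπB), fun k => ?_⟩
    obtain ⟨c, hc⟩ := halm k
    refine ⟨c, ?_⟩
    have h' := congrArg (algebraMap B K) hc
    simp only [map_mul, map_pow] at h'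
    rw [Algebra.smul_def, div_pow, ← pow_mul, ← mul_div_assoc, map_pow, h']
    exact (mul_div_cancel_left₀ _ (pow_ne_zero _ hβ)).symm
  obtain ⟨b', hb'⟩ := IsIntegrallyClosed.isIntegral_iff.mp hint
  have hb : b = (algebraMap R B π) ^ n * b' := IsFractionRing.injective B K (by
    rw [map_mul, hb', map_pow, mul_div_cancel₀ _ (pow_ne_zero _ hβ)])
  refine ⟨algebraMap B Z b' + t, ?_⟩
  have h1 : u = algebraMap Z T (algebraMap B Z b') := by
    refine ((IsLocalization.map_units T (⟨ϖ ^ n, n, rfl⟩ : Submonoid.powers ϖ)).mul_left_inj).mp ?_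
    rw [hu, hb, map_mul, map_pow, ← IsScalarTower.algebraMap_apply R B Z, map_mul]
    ring
  rw [map_add, ← h1]
  exact sub_add_cancel w _

set_option maxHeartbeats 1000000 in
/-- Normal finite type algebras over a discrete valuation ring whose completed base change has normal
generic fibre are analytically normal. -/
theorem isNormal_cpl_localization [IsDomain B] [IsIntegrallyClosed B] [Algebra.FiniteType R B] {π : R}
    (hπ : Irreducible π) (hπB : algebraMap R B π ≠ 0)
    (hgen : ∀ (Q : Ideal (B ⊗[R] Curv2.cpl R)) [Q.IsPrime], algebraMap R _ π ∉ Q →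
      IsDomain (Localization.AtPrime Q) ∧ IsIntegrallyClosed (Localization.AtPrime Q))
    (P : Ideal B) [P.IsPrime] :
    IsDomain (AdicCompletion (maximalIdeal (Localization.AtPrime P)) (Localization.AtPrime P)) ∧
      IsIntegrallyClosed (AdicCompletion (maximalIdeal (Localization.AtPrime P)) (Localization.AtPrime P)) := by
  let L := Localization.AtPrime P
  haveI : IsDomain L := IsLocalization.isDomain_localization P.primeCompl_le_nonZeroDivisors
  haveI : IsIntegrallyClosed L :=
    isIntegrallyClosed_of_isLocalization _ P.primeCompl P.primeCompl_le_nonZeroDivisors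
  by_cases hP : algebraMap R B π ∈ P
  swap
  · -- a point of the generic fibre
    let K := FractionRing R
    haveI : IsLocalization.Away π K := ModelFibre.SmoothGeneric.isLocalization_away hπ
    have hu : IsUnit (algebraMap R L π) := by
      rw [IsScalarTower.algebraMap_apply R B L]
      exact IsLocalization.map_units L (⟨_, hP⟩ : P.primeCompl)
    letI : Algebra K L := (IsLocalization.Away.lift π hu).toAlgebra
    haveI : IsScalarTower R K L := IsScalarTower.of_algebraMap_eq fun r =>
      (IsLocalization.Away.lift_eq π hu r).symm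
    haveI : Algebra.EssFiniteType B L := Algebra.EssFiniteType.of_isLocalization L P.primeCompl
    haveI : Algebra.EssFiniteType R L := Algebra.EssFiniteType.comp R B L
    haveI : Algebra.EssFiniteType K L := Algebra.EssFiniteType.of_comp R K L
    exact isNormal_cpl_of_isGRing L (GRing.EssFinite.isGRing K (isGRing_field K) L)
  let Z := B ⊗[R] Curv2.cpl R
  haveI := Excellent.CompletionNoetherian.isNoetherianRing_adicCompletion (A := R) (maximalIdeal R)
  haveI : Module.FaithfullyFlat R (Curv2.cpl R) := Module.FaithfullyFlat.of_flat_of_isLocalHom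
  haveI : Module.FaithfullyFlat B Z := inferInstance
  haveI : IsNoetherianRing B := Algebra.FiniteType.isNoetherianRing R B
  obtain ⟨⟨Q, hQ⟩, hQP⟩ := PrimeSpectrum.comap_surjective_of_faithfullyFlat (A := B) (B := Z) ⟨P, inferInstance⟩
  obtain rfl : Q.comap (algebraMap B Z) = P := congrArg PrimeSpectrum.asIdeal hQP
  let L' := Localization.AtPrime Q
  have hπQ : algebraMap R Z π ∈ Q := by
    rw [IsScalarTower.algebraMap_apply R B Z]; exact hP
  have hQmap : Q = (Q.comap (algebraMap B Z)).map (algebraMap B Z) := by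
    refine Groth.Agent.S1597.eq_map Q ?_
    have h := congrArg (Ideal.map (algebraMap R (Curv2.cpl R))) hπ.maximalIdeal_eq
    rw [Ideal.map_span, Set.image_singleton] at h
    rw [show maximalIdeal (Curv2.cpl R) = _ from AdicCompletion.maximalIdeal_eq_map.trans h,
      Ideal.span_le, Set.singleton_subset_iff]
    show (Algebra.TensorProduct.includeRight : Curv2.cpl R →ₐ[R] Z) (algebraMap R _ π) ∈ Q
    rw [AlgHom.commutes]
    exact hπQ
  letI : Algebra L L' := (Localization.localRingHom (Q.comap (algebraMap B Z)) Q (algebraMap B Z) rfl).toAlgebra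
  haveI : IsLocalHom (algebraMap L L') := Localization.isLocalHom_localRingHom _ _ _ rfl
  haveI : Module.Flat L L' := RingHom.flat_algebraMap_iff.mp
    ((RingHom.flat_algebraMap_iff.mpr (inferInstance : Module.Flat B Z)).localRingHom Q _ rfl)
  haveI : Module.FaithfullyFlat L L' := @Module.FaithfullyFlat.of_flat_of_isLocalHom L L' _ _ _ _ _ _ _
  have hc : (algebraMap L L').comp (algebraMap B L) = (algebraMap Z L').comp (algebraMap B Z) :=
    RingHom.ext fun b => Localization.localRingHom_to_map _ _ _ rfl b
  have hm : (maximalIdeal L).map (algebraMap L L') = maximalIdeal L' := by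
    rw [← Localization.AtPrime.map_eq_maximalIdeal, Ideal.map_map, hc, ← Ideal.map_map, ← hQmap,
      Localization.AtPrime.map_eq_maximalIdeal]
  have hπm : ∀ k : ℕ, ∀ x : L', algebraMap Z L' (algebraMap R Z (π ^ k)) * x ∈
      (maximalIdeal L ^ k).map (algebraMap L L') := fun k x => by
    refine Ideal.mul_mem_right _ _ ?_
    rw [Ideal.map_pow, hm, map_pow, map_pow]
    exact Ideal.pow_mem_pow ((IsLocalization.AtPrime.to_map_mem_maximal_iff L' Q _).mpr hπQ) k
  obtain ⟨e⟩ := Henselian.GRingHens.exists_cplEquiv_of_trunc L L' (maximalIdeal L) (maximalIdeal L') hm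
    fun k => by
      constructor
      · refine Ideal.quotientMap_injective' ?_
        exact (Ideal.comap_map_eq_self_of_faithfullyFlat (A := L) (B := L') (maximalIdeal L ^ k)).le
      · intro y
        obtain ⟨y, rfl⟩ := Ideal.Quotient.mk_surjective y
        rcases Nat.eq_zero_or_pos k with rfl | hk
        · refine ⟨0, ?_⟩
          rw [map_zero, eq_comm, Ideal.Quotient.eq_zero_iff_mem, pow_zero, Ideal.one_eq_top, Ideal.map_top]
          trivial
        obtain ⟨z, ⟨s, hs⟩, rfl⟩ := IsLocalization.exists_mk'_eq Q.primeCompl y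
        obtain ⟨b, t, hbt⟩ := exists_sub_mem hπ k z
        obtain ⟨c, t', hct⟩ := exists_sub_mem hπ k s
        have hcP : c ∉ Q.comap (algebraMap B Z) := fun h => hs (hct ▸ add_mem h (Ideal.mul_mem_right _ _ (by
          rw [map_pow]; exact Ideal.pow_mem_of_mem _ hπQ k hk)))
        let a : L := IsLocalization.mk' L b (⟨c, hcP⟩ : (Q.comap (algebraMap B Z)).primeCompl)
        refine ⟨Ideal.Quotient.mk _ a, ?_⟩
        rw [Ideal.quotientMap_mk, eq_comm, Ideal.Quotient.eq]
        have ha : algebraMap L L' a * algebraMap Z L' (algebraMap B Z c) = algebraMap Z L' (algebraMap B Z b) := by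
          rw [← RingHom.comp_apply (algebraMap Z L'), ← hc, ← RingHom.comp_apply (algebraMap Z L') (algebraMap B Z) b,
            ← hc, RingHom.comp_apply, RingHom.comp_apply, ← map_mul, IsLocalization.mk'_spec]
        have hy := IsLocalization.mk'_spec L' z (⟨s, hs⟩ : Q.primeCompl)
        refine (Ideal.unit_mul_mem_iff_mem _ (IsLocalization.map_units L' (⟨s, hs⟩ : Q.primeCompl))).mp ?_
        have key : algebraMap Z L' s * (IsLocalization.mk' L' z (⟨s, hs⟩ : Q.primeCompl) - algebraMap L L' a) =
            algebraMap Z L' (algebraMap R Z (π ^ k)) *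
              (algebraMap Z L' t - algebraMap Z L' t' * algebraMap L L' a) := by
          have h1 : algebraMap Z L' z = algebraMap Z L' (algebraMap B Z b) +
              algebraMap Z L' (algebraMap R Z (π ^ k)) * algebraMap Z L' t := by
            rw [← map_mul, ← map_add]; exact congrArg _ hbt
          have h2 : algebraMap Z L' s = algebraMap Z L' (algebraMap B Z c) +
              algebraMap Z L' (algebraMap R Z (π ^ k)) * algebraMap Z L' t' := by
            rw [← map_mul, ← map_add]; exact congrArg _ hct
          exact @sub_eq L' _ _ _ _ _ _ _ _ _ _ hy h1 h2 ha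
        rw [key]
        exact hπm k _
  haveI := Excellent.CompletionNoetherian.isNoetherianRing_adicCompletion (A := R) (maximalIdeal R)
  obtain ⟨_, _⟩ := Cohen.DedekindGRing.exists_dvr R
  letI : Algebra (Curv2.cpl R) Z := Algebra.TensorProduct.rightAlgebra
  haveI : Algebra.FiniteType (Curv2.cpl R) Z := Algebra.FiniteType.equiv
    (A := Curv2.cpl R ⊗[R] B) inferInstance
    (AlgEquiv.ofRingEquiv (f := (Algebra.TensorProduct.comm R (Curv2.cpl R) B).toRingEquiv) fun r => by
      simp [Algebra.TensorProduct.algebraMap_apply, RingHom.algebraMap_toAlgebra])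
  haveI : IsAdicComplete (maximalIdeal (Curv2.cpl R)) (Curv2.cpl R) := inferInstance
  have hG : CAlg.IsGRing L' := GRing.EssFinite.isGRing Z
    (GRing.EssFinite.isGRing (Curv2.cpl R) (Groth.Agent.S0598.result (Curv2.cpl R)) Z) L'
  obtain ⟨_, _⟩ := isNormalRing_tensor_cpl hπ hπB hgen Q
  exact Excellent.NormalRing.isoInvariant_domainIntClosed _ _ e.symm.toRingEquiv (isNormal_cpl_of_isGRing L' hG)

end Groth.Agent.Lib.AnalyticNormal74.Basic
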